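import Mathlib

set_option autoImplicit false
set_option linter.unusedSectionVars false
set_option linter.unusedVariables false
set_option linter.unusedSimpArgs false
set_option linter.style.haveILetI false
set_option maxHeartbeats 400000

universe u v w

open TensorProduct

namespace Groth.Agent.Lib.Helper6.EtG

section trace

variable {B : Type u} {R : Type v} {G : Type w} [CommRing B] [CommRing R] [Algebra B R]
  [Group G] [Fintype G] [DecidableEq G] [MulSemiringAction G R] [SMulCommClass G B R]
  [Algebra.IsInvariant B R G] (hinj : Function.Injective (algebraMap B R))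

lemma sum_smul_invariant (r : R) (g : G) : g • (∑ σ : G, σ • r) = ∑ σ : G, σ • r := by
  rw [Finset.smul_sum]
  simp_rw [smul_smul]
  exact Fintype.sum_equiv (Equiv.mulLeft g) _ _ (fun σ => rfl)

variable (B G) in
lemma exists_trace (r : R) : ∃ t : B, algebraMap B R t = ∑ σ : G, σ • r :=
  Algebra.IsInvariant.isInvariant _ (sum_smul_invariant r)

variable (B G) in
/-- The trace as a function. -/
noncomputable def trFun (r : R) : B := Classical.choose (exists_trace B G r)

lemma trFun_spec (r : R) : algebraMap B R (trFun B G r) = ∑ σ : G, σ • r :=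
  Classical.choose_spec (exists_trace B G r)

include hinj in
variable (G) in
/-- The trace `R → B` as a `B`-linear map. -/
noncomputable def tr : R →ₗ[B] B where
  toFun := trFun B G
  map_add' r s := by
    apply hinj
    rw [map_add, trFun_spec, trFun_spec, trFun_spec, ← Finset.sum_add_distrib]
    simp_rw [smul_add]
  map_smul' c r := by
    apply hinj
    rw [RingHom.id_apply, smul_eq_mul, map_mul, trFun_spec, trFun_spec, Finset.mul_sum]
    refine Finset.sum_congr rfl fun σ _ => ?_
    rw [smul_comm, Algebra.smul_def]

lemma tr_spec (r : R) : algebraMap B R (tr G hinj r) = ∑ σ : G, σ • r := trFun_spec r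

variable {ι : Type} [Fintype ι] (x y : ι → R) (b : B)
  (hxy : ∀ σ : G, ∑ i, x i * σ • y i = if σ = 1 then algebraMap B R b else 0)

include hxy in
lemma hyx (σ : G) : ∑ i, σ • x i * y i = if σ = 1 then algebraMap B R b else 0 := by
  have h := congrArg (fun z => σ • z) (hxy σ⁻¹)
  simp only [Finset.smul_sum, smul_mul', smul_inv_smul] at h
  rw [h]
  by_cases hσ : σ = 1
  · subst hσ; simp
  · have : σ⁻¹ ≠ 1 := fun h' => hσ (inv_eq_one.mp h')
    rw [if_neg hσ, if_neg this, smul_zero]

include hxy in
/-- First dual basis identity. -/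
lemma dual1 (r : R) : algebraMap B R b * r = ∑ i, algebraMap B R (tr G hinj (y i * r)) * x i := by
  simp_rw [tr_spec, Finset.sum_mul, smul_mul']
  rw [Finset.sum_comm]
  have : ∀ σ : G, ∑ i, σ • y i * σ • r * x i = (σ • r) * ∑ i, x i * σ • y i := by
    intro σ
    rw [Finset.mul_sum]
    exact Finset.sum_congr rfl fun i _ => by ring
  simp_rw [this, hxy]
  simp [mul_comm]

include hxy in
/-- Second dual basis identity. -/
lemma dual2 (r : R) : algebraMap B R b * r = ∑ i, algebraMap B R (tr G hinj (x i * r)) * y i := by
  simp_rw [tr_spec, Finset.sum_mul, smul_mul']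
  rw [Finset.sum_comm]
  have : ∀ σ : G, ∑ i, σ • x i * σ • r * y i = (σ • r) * ∑ i, σ • x i * y i := by
    intro σ
    rw [Finset.mul_sum]
    exact Finset.sum_congr rfl fun i _ => by ring
  simp_rw [this, hyx x y b hxy]
  simp [mul_comm]

end trace

end Groth.Agent.Lib.Helper6.EtG
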