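import Mathlib
import Groth.Agent.Lib.Helper6.EtG.CHRa

set_option autoImplicit false
set_option linter.unusedSectionVars false
set_option linter.unusedVariables false
set_option linter.unusedSimpArgs false
set_option linter.style.haveILetI false
set_option maxHeartbeats 400000

universe u v w

open TensorProduct

namespace Groth.Agent.Lib.Helper6.EtG

section kaehler

variable {B : Type u} {R : Type v} {G : Type w} [CommRing B] [CommRing R] [Algebra B R]
  [Group G] [Fintype G] [DecidableEq G] [MulSemiringAction G R] [SMulCommClass G B R]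
  [Algebra.IsInvariant B R G] (hinj : Function.Injective (algebraMap B R))
  {ι : Type} [Fintype ι] (x y : ι → R) (b : B)
  (hxy : ∀ σ : G, ∑ i, x i * σ • y i = if σ = 1 then algebraMap B R b else 0)

include hinj hxy in
lemma smul_D_eq (s : R) :
    b • KaehlerDifferential.D B R s =
      ∑ j, tr G hinj (x j * s) • KaehlerDifferential.D B R (y j) := by
  have h := dual2 hinj x y b hxy s
  have h2 : b • s = ∑ j, tr G hinj (x j * s) • y j := by
    rw [Algebra.smul_def, h]
    exact Finset.sum_congr rfl fun j _ => (Algebra.smul_def _ _).symm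
  rw [← Derivation.map_smul, h2, map_sum]
  exact Finset.sum_congr rfl fun j _ => Derivation.map_smul _ _ _

include hinj hxy in
lemma sq_smul_D (r : R) : (b ^ 2) • KaehlerDifferential.D B R r = 0 := by
  set S : Ω[R⁄B] := ∑ j, x j • KaehlerDifferential.D B R (y j) with hS
  -- step (2)
  have h2 : b • ∑ i, x i • KaehlerDifferential.D B R (y i * r) = b • r • S := by
    rw [Finset.smul_sum]
    have : ∀ i, b • x i • KaehlerDifferential.D B R (y i * r) =
        ∑ j, (algebraMap B R (tr G hinj (y i * (x j * r))) * x i) •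
          KaehlerDifferential.D B R (y j) := by
      intro i
      rw [smul_comm, smul_D_eq hinj x y b hxy, Finset.smul_sum]
      refine Finset.sum_congr rfl fun j _ => ?_
      have e : x j * (y i * r) = y i * (x j * r) := by ring
      rw [e, mul_smul, algebraMap_smul, smul_comm]
    simp_rw [this]
    rw [Finset.sum_comm]
    simp_rw [← Finset.sum_smul, ← dual1 hinj x y b hxy]
    rw [hS, Finset.smul_sum, Finset.smul_sum]
    refine Finset.sum_congr rfl fun j _ => ?_
    rw [mul_smul, algebraMap_smul, mul_comm (x j) r, mul_smul]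
  -- step (3): Leibniz
  have h3 : ∑ i, x i • KaehlerDifferential.D B R (y i * r) =
      algebraMap B R b • KaehlerDifferential.D B R r + r • S := by
    have h1 := hxy 1
    simp only [one_smul, if_true] at h1
    rw [← h1, Finset.sum_smul, hS, Finset.smul_sum, ← Finset.sum_add_distrib]
    refine Finset.sum_congr rfl fun i _ => ?_
    rw [Derivation.leibniz, smul_add, mul_smul, smul_comm r (x i)]
  rw [h3, smul_add, algebraMap_smul] at h2
  have h4 : b • b • KaehlerDifferential.D B R r = 0 := by
    have := congrArg (fun z => z - b • r • S) h2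
    simpa using this
  rw [pow_two, mul_smul]
  exact h4

include hinj hxy in
lemma sq_smul_kaehler (ω : Ω[R⁄B]) : (b ^ 2) • ω = 0 := by
  have hω : ω ∈ Submodule.span R (Set.range (KaehlerDifferential.D B R)) := by
    rw [KaehlerDifferential.span_range_derivation]; trivial
  induction hω using Submodule.span_induction with
  | mem z hz =>
    obtain ⟨r, rfl⟩ := hz
    exact sq_smul_D hinj x y b hxy r
  | zero => rw [smul_zero]
  | add z w _ _ hz hw => rw [smul_add, hz, hw, add_zero]
  | smul c z _ hz => rw [smul_comm, hz, smul_zero]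

end kaehler

end Groth.Agent.Lib.Helper6.EtG

namespace Groth.Agent.Lib.Helper6.EtG

section etale

variable {B : Type u} {R : Type u} {G : Type w} [CommRing B] [CommRing R] [Algebra B R]
  [Group G] [Fintype G] [DecidableEq G] [MulSemiringAction G R] [SMulCommClass G B R]
  [Algebra.IsInvariant B R G] (hinj : Function.Injective (algebraMap B R))
  {ι : Type} [Fintype ι] (x y : ι → R) (b : B)
  (hxy : ∀ σ : G, ∑ i, x i * σ • y i = if σ = 1 then algebraMap B R b else 0)
  (A₀ : Type u) [CommRing A₀] [Algebra B A₀] (hb : IsUnit (algebraMap B A₀ b))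

/-- The coordinate map `R → B^ι`. -/
noncomputable def coordMap : R →ₗ[B] (ι → B) :=
  LinearMap.pi fun i => (tr G hinj) ∘ₗ (LinearMap.mulLeft B (y i))

include hxy in
lemma comb_coordMap : (Fintype.linearCombination B x) ∘ₗ (coordMap (G := G) hinj y) =
    b • (LinearMap.id : R →ₗ[B] R) := by
  apply LinearMap.ext
  intro r
  simp only [LinearMap.comp_apply, coordMap, Fintype.linearCombination_apply, LinearMap.pi_apply,
    LinearMap.mulLeft_apply, LinearMap.smul_apply, LinearMap.id_apply]
  rw [Algebra.smul_def, dual1 hinj x y b hxy r]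
  exact Finset.sum_congr rfl fun i _ => Algebra.smul_def _ _

include hinj hxy hb in
theorem projective_finite_baseChange :
    Module.Projective A₀ (A₀ ⊗[B] R) ∧ Module.Finite A₀ (A₀ ⊗[B] R) := by
  obtain ⟨u, hu⟩ := hb
  let p' : A₀ ⊗[B] R →ₗ[A₀] A₀ ⊗[B] (ι → B) := (coordMap (G := G) hinj y).baseChange A₀
  let q' : A₀ ⊗[B] (ι → B) →ₗ[A₀] A₀ ⊗[B] R := (Fintype.linearCombination B x).baseChange A₀
  have hcomp : q' ∘ₗ p' = (algebraMap B A₀ b) • LinearMap.id := by
    rw [← LinearMap.baseChange_comp, comb_coordMap hinj x y b hxy, LinearMap.baseChange_smul,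
      LinearMap.baseChange_id]
    apply LinearMap.ext
    intro z
    simp only [LinearMap.smul_apply, LinearMap.id_apply, algebraMap_smul]
  let s : A₀ ⊗[B] (ι → B) →ₗ[A₀] A₀ ⊗[B] R := (↑u⁻¹ : A₀) • q'
  have hs : s ∘ₗ p' = LinearMap.id := by
    show ((↑u⁻¹ : A₀) • q') ∘ₗ p' = LinearMap.id
    rw [LinearMap.smul_comp, hcomp, ← hu, smul_smul, Units.inv_mul, one_smul]
  refine ⟨Module.Projective.of_split p' s hs, Module.Finite.of_surjective s ?_⟩
  intro z
  exact ⟨p' z, by rw [← LinearMap.comp_apply, hs, LinearMap.id_apply]⟩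

include hinj hxy hb in
theorem subsingleton_tensor_kaehler : Subsingleton (A₀ ⊗[B] Ω[R⁄B]) := by
  obtain ⟨u, hu⟩ := hb
  refine ⟨fun z w => ?_⟩
  have h0 : ∀ z : A₀ ⊗[B] Ω[R⁄B], z = 0 := by
    intro z
    induction z using TensorProduct.induction_on with
    | zero => rfl
    | tmul a ω =>
      have : a = (b ^ 2) • (a * (↑u⁻¹ : A₀) ^ 2) := by
        rw [Algebra.smul_def, map_pow, ← hu]
        have : (↑u : A₀) * ↑u⁻¹ = 1 := Units.mul_inv u
        linear_combination (-(a * (↑u : A₀) * ↑u⁻¹) - a) * this
      rw [this, TensorProduct.smul_tmul, sq_smul_kaehler hinj x y b hxy, TensorProduct.tmul_zero]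
    | add z w hz hw => rw [hz, hw, add_zero]
  rw [h0 z, h0 w]

attribute [local instance] Algebra.TensorProduct.rightAlgebra in
include hinj hxy hb in
theorem etale_baseChange : Algebra.Etale A₀ (A₀ ⊗[B] R) := by
  obtain ⟨hproj, hfin⟩ := projective_finite_baseChange hinj x y b hxy A₀ hb
  haveI := hproj
  haveI := hfin
  haveI : Module.FinitePresentation A₀ (A₀ ⊗[B] R) := Module.finitePresentation_of_projective _ _
  haveI := subsingleton_tensor_kaehler hinj x y b hxy A₀ hb
  haveI : Algebra.FormallyUnramified A₀ (A₀ ⊗[B] R) := by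
    rw [Algebra.formallyUnramified_iff]
    exact (KaehlerDifferential.tensorKaehlerEquivBase B A₀ R (A₀ ⊗[B] R)).symm.toEquiv.subsingleton
  exact Algebra.Etale.of_formallyUnramified_of_flat

end etale

end Groth.Agent.Lib.Helper6.EtG
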