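import Mathlib
import Groth.Agent.Lib.Helper6.EtG.CHRb

set_option autoImplicit false
set_option linter.unusedSectionVars false
set_option linter.unusedVariables false
set_option linter.unusedSimpArgs false
set_option linter.style.haveILetI false
set_option maxHeartbeats 400000

universe u v w

open TensorProduct
open scoped Pointwise

namespace Groth.Agent.Lib.Helper6.EtG

section free

variable {B : Type u} {R : Type v} {G : Type w} [CommRing B] [CommRing R] [Algebra B R]
  [Group G] [Finite G] [MulSemiringAction G R] [SMulCommClass G B R]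
  [Algebra.IsInvariant B R G]

/-- The ideal generated by the `x - σ x`. -/
def diffIdeal (σ : G) : Ideal R := Ideal.span (Set.range fun x : R => x - σ • x)

lemma smul_eq_of_diffIdeal_le (σ : G) (M : Ideal R) (h : diffIdeal σ ≤ M) : σ • M = M := by
  have h1 : ∀ x ∈ M, σ • x ∈ M := by
    intro x hx
    have : x - σ • x ∈ M := h (Ideal.subset_span ⟨x, rfl⟩)
    have h2 := M.sub_mem hx this
    rwa [sub_sub_cancel] at h2
  have hpow : ∀ k : ℕ, ∀ x ∈ M, (σ ^ k) • x ∈ M := by
    intro k
    induction k with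
    | zero => intro x hx; simpa using hx
    | succ k ih =>
      intro x hx
      rw [pow_succ, mul_smul]
      exact ih _ (h1 x hx)
  apply le_antisymm
  · intro z hz
    rw [Ideal.mem_pointwise_smul_iff_inv_smul_mem] at hz
    have := h1 _ hz
    rwa [smul_inv_smul] at this
  · intro z hz
    rw [Ideal.mem_pointwise_smul_iff_inv_smul_mem]
    obtain ⟨k, hk⟩ : ∃ k : ℕ, σ⁻¹ = σ ^ k := by
      have hfin : IsOfFinOrder σ := isOfFinOrder_of_finite σ
      refine ⟨orderOf σ - 1, ?_⟩
      have hpos : 0 < orderOf σ := hfin.orderOf_pos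
      rw [inv_eq_iff_mul_eq_one, ← pow_succ', Nat.sub_add_cancel hpos, pow_orderOf_eq_one]
    rw [hk]
    exact hpow k z hz

/-- If the stabilizer of `m` is trivial, then for `σ ≠ 1` the ideal `I_σ` meets `B ∖ n`. -/
theorem exists_notMem_of_stabilizer (m : Ideal R) [m.IsPrime]
    (hstab : MulAction.stabilizer G m = ⊥) (σ : G) (hσ : σ ≠ 1) :
    ∃ c : B, c ∉ m.under B ∧ algebraMap B R c ∈ diffIdeal σ := by
  by_contra hcon
  push Not at hcon
  have hle : (diffIdeal σ).comap (algebraMap B R) ≤ m.under B := by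
    intro c hc
    by_contra hcm
    exact hcon c hcm hc
  haveI : Algebra.IsIntegral B R := Algebra.IsInvariant.isIntegral B R G
  obtain ⟨M, hIM, hMprime, hMn⟩ := Ideal.exists_ideal_over_prime_of_isIntegral (m.under B)
    (diffIdeal σ) hle
  haveI := hMprime
  obtain ⟨τ, hτ⟩ := Algebra.IsInvariant.exists_smul_of_under_eq B R G m M hMn.symm
  have h1 : σ • M = M := smul_eq_of_diffIdeal_le σ M hIM
  have h2 : σ ∈ MulAction.stabilizer G M := h1
  rw [hτ, MulAction.stabilizer_smul_eq_stabilizer_map_conj, hstab, Subgroup.map_bot,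
    Subgroup.mem_bot] at h2
  exact hσ h2

end free

section elements

variable {B : Type u} {R : Type v} {G : Type w} [CommRing B] [CommRing R] [Algebra B R]
  [Group G] [MulSemiringAction G R] [SMulCommClass G B R]

/-- The map `x ⊗ y ↦ x * τ y`. -/
noncomputable def hmap (τ : G) : R ⊗[B] R →ₐ[B] R :=
  Algebra.TensorProduct.lift (AlgHom.id B R) (MulSemiringAction.toAlgHom B R τ)
    (fun _ _ => Commute.all _ _)

lemma hmap_tmul (τ : G) (x y : R) : hmap (B := B) τ (x ⊗ₜ y) = x * τ • y := by
  simp [hmap]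

/-- For `c ∈ I_σ` there is a tensor with `h_1 = c` and `h_σ = 0`. -/
lemma exists_tensor_of_mem (σ : G) (c : R) (hc : c ∈ diffIdeal σ) :
    ∃ e : R ⊗[B] R, hmap (B := B) (1 : G) e = c ∧ hmap (B := B) σ e = 0 := by
  obtain ⟨f, hf⟩ := Finsupp.mem_ideal_span_range_iff_exists_finsupp.mp hc
  clear hc
  subst hf
  refine ⟨f.sum fun i a => a ⊗ₜ[B] i - (a * σ • i) ⊗ₜ[B] 1, ?_, ?_⟩
  · rw [Finsupp.sum, Finsupp.sum, map_sum]
    refine Finset.sum_congr rfl fun i _ => ?_
    rw [map_sub, hmap_tmul, hmap_tmul, one_smul, one_smul, mul_one, mul_sub]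
  · rw [Finsupp.sum, map_sum]
    refine Finset.sum_eq_zero fun i _ => ?_
    rw [map_sub, hmap_tmul, hmap_tmul, smul_one, mul_one, sub_self]

end elements

end Groth.Agent.Lib.Helper6.EtG
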