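import Mathlib
import Groth.Agent.Lib.Helper6.EtG.CHRc

set_option autoImplicit false
set_option linter.unusedSectionVars false
set_option linter.unusedVariables false
set_option linter.unusedSimpArgs false
set_option linter.style.haveILetI false
set_option maxHeartbeats 400000

universe u v w

open TensorProduct
open scoped Pointwise

namespace Groth.Agent.Lib.Helper6.EtG

section

variable {B : Type u} {R : Type v} {G : Type w} [CommRing B] [CommRing R] [Algebra B R]
  [Group G] [Fintype G] [DecidableEq G] [MulSemiringAction G R] [SMulCommClass G B R]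
  [Algebra.IsInvariant B R G]

theorem exists_dual_elements (m : Ideal R) [m.IsPrime]
    (hstab : MulAction.stabilizer G m = ⊥) :
    ∃ (b : B) (n : ℕ) (x y : Fin n → R), b ∉ m.under B ∧
      ∀ σ : G, ∑ i, x i * σ • y i = if σ = 1 then algebraMap B R b else 0 := by
  have key : ∀ σ : G, ∃ (c : B) (e : R ⊗[B] R), σ ≠ 1 →
      (c ∉ m.under B ∧ hmap (B := B) (1 : G) e = algebraMap B R c ∧ hmap (B := B) σ e = 0) := by
    intro σ
    by_cases hσ : σ = 1
    · exact ⟨0, 0, fun h => absurd hσ h⟩
    · obtain ⟨c, hc1, hc2⟩ := exists_notMem_of_stabilizer (B := B) m hstab σ hσ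
      obtain ⟨e, he1, he2⟩ := exists_tensor_of_mem (B := B) σ _ hc2
      exact ⟨c, e, fun _ => ⟨hc1, he1, he2⟩⟩
  choose c e h using key
  set b : B := ∏ σ ∈ Finset.univ.erase (1 : G), c σ with hb
  set E : R ⊗[B] R := ∏ σ ∈ Finset.univ.erase (1 : G), e σ with hE
  have hb_notMem : b ∉ m.under B := by
    rw [hb, Ideal.IsPrime.prod_mem_iff]
    rintro ⟨σ, hσ, hmem⟩
    exact (h σ (Finset.ne_of_mem_erase hσ)).1 hmem
  have h1 : hmap (B := B) (1 : G) E = algebraMap B R b := by
    rw [hE, hb, map_prod, map_prod]
    exact Finset.prod_congr rfl fun σ hσ => (h σ (Finset.ne_of_mem_erase hσ)).2.1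
  have h2 : ∀ τ : G, τ ≠ 1 → hmap (B := B) τ E = 0 := by
    intro τ hτ
    rw [hE, map_prod]
    exact Finset.prod_eq_zero (Finset.mem_erase.mpr ⟨hτ, Finset.mem_univ τ⟩) (h τ hτ).2.2
  obtain ⟨S, hS⟩ := TensorProduct.exists_finset E
  refine ⟨b, S.card, fun i => (S.equivFin.symm i).1.1, fun i => (S.equivFin.symm i).1.2,
    hb_notMem, fun σ => ?_⟩
  have hsum : hmap (B := B) σ E = ∑ i : Fin S.card,
      (S.equivFin.symm i).1.1 * σ • (S.equivFin.symm i).1.2 := by
    rw [hS, map_sum, ← Finset.sum_coe_sort S]
    rw [← Equiv.sum_comp S.equivFin.symm]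
    exact Finset.sum_congr rfl fun i _ => hmap_tmul σ _ _
  rw [← hsum]
  by_cases hσ : σ = 1
  · rw [if_pos hσ, hσ, h1]
  · rw [if_neg hσ, h2 σ hσ]

end

section main

variable (B R : Type u) (G : Type w) [CommRing B] [CommRing R] [Algebra B R]
  [Group G] [Finite G] [MulSemiringAction G R] [SMulCommClass G B R]
  [Algebra.IsInvariant B R G]

attribute [local instance] Algebra.TensorProduct.rightAlgebra in
theorem isEtaleAt_of_stabilizer_eq_bot (hinj : Function.Injective (algebraMap B R))
    (m : Ideal R) [m.IsPrime] (hstab : MulAction.stabilizer G m = ⊥) :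
    Algebra.IsEtaleAt B m := by
  classical
  cases nonempty_fintype G
  obtain ⟨b, n, x, y, hbm, hxy⟩ := exists_dual_elements (B := B) m hstab
  have hb : IsUnit (algebraMap B (Localization.Away b) b) :=
    IsLocalization.Away.algebraMap_isUnit b
  haveI hE : Algebra.Etale (Localization.Away b) (Localization.Away b ⊗[B] R) :=
    etale_baseChange hinj x y b hxy (Localization.Away b) hb
  haveI h1 : Algebra.FormallyEtale B (Localization.Away b) :=
    Algebra.FormallyEtale.of_isLocalization (Submonoid.powers b)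
  haveI h2 : Algebra.FormallyEtale B (Localization.Away b ⊗[B] R) :=
    Algebra.FormallyEtale.comp B (Localization.Away b) _
  let e : (Localization.Away b ⊗[B] R) ≃ₐ[B] Localization.Away (algebraMap B R b) :=
    (IsLocalization.Away.tensorRightEquiv R b (Localization.Away b)).restrictScalars B
  have h3 : Algebra.FormallyEtale B (Localization.Away (algebraMap B R b)) :=
    Algebra.FormallyEtale.of_equiv e
  have h4 := Algebra.basicOpen_subset_etaleLocus_iff.mpr h3
  have hm : (⟨m, inferInstance⟩ : PrimeSpectrum R) ∈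
      (PrimeSpectrum.basicOpen (algebraMap B R b) : Set (PrimeSpectrum R)) := by
    show algebraMap B R b ∉ m
    exact fun h => hbm h
  exact h4 hm

end main

end Groth.Agent.Lib.Helper6.EtG
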