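import Mathlib
import Groth.Agent.Lib.Helper6.EtG.CHRd

set_option autoImplicit false
set_option linter.unusedSectionVars false
set_option linter.unusedVariables false
set_option linter.unusedSimpArgs false
set_option linter.style.haveILetI false
set_option maxHeartbeats 400000

universe u v w v'

open TensorProduct
open scoped Pointwise

namespace Groth.Agent.Lib.Helper6.EtG

section resid

variable (k : Type u) [Field k] [IsAlgClosed k]
  (R : Type v) [CommRing R] [Algebra k R] [Algebra.FiniteType k R]
  (G : Type w) [Group G] [MulSemiringAction G R] [SMulCommClass G k R]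

/-- The residue field at a maximal ideal of a f.t. algebra over an alg. closed field is `k`. -/
theorem exists_algebraMap_sub_mem (m : Ideal R) [m.IsMaximal] (x : R) :
    ∃ c : k, x - algebraMap k R c ∈ m := by
  letI : Field (R ⧸ m) := Ideal.Quotient.field m
  haveI : Algebra.FiniteType k (R ⧸ m) :=
    Algebra.FiniteType.of_surjective (Ideal.Quotient.mkₐ k m) Ideal.Quotient.mk_surjective
  haveI : Module.Finite k (R ⧸ m) := finite_of_finite_type_of_isJacobsonRing k (R ⧸ m)
  haveI : Algebra.IsIntegral k (R ⧸ m) := inferInstance
  obtain ⟨c, hc⟩ := (IsAlgClosed.algebraMap_bijective_of_isIntegral (k := k) (K := R ⧸ m)).2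
    (Ideal.Quotient.mk m x)
  refine ⟨c, ?_⟩
  rw [← Ideal.Quotient.eq_zero_iff_mem, map_sub, sub_eq_zero, ← hc]
  rfl

include k in
theorem smul_sub_mem (m : Ideal R) [m.IsMaximal] (g : G) (hg : g • m = m) (x : R) :
    g • x - x ∈ m := by
  obtain ⟨c, hc⟩ := exists_algebraMap_sub_mem k R m x
  have h1 : g • (x - algebraMap k R c) ∈ m := by
    have : g • (x - algebraMap k R c) ∈ g • m := Ideal.smul_mem_pointwise_smul _ _ _ hc
    rwa [hg] at this
  have h2 : g • (x - algebraMap k R c) = g • x - algebraMap k R c := by
    rw [smul_sub, smul_algebraMap]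
  rw [h2] at h1
  have : g • x - x = (g • x - algebraMap k R c) - (x - algebraMap k R c) := by ring
  rw [this]
  exact m.sub_mem h1 hc

end resid

section loc

variable (R : Type v) [CommRing R]
  (G : Type w) [Group G] [MulSemiringAction G R]
  (B : Type v') [CommRing B] [Algebra B R] [SMulCommClass G B R]

theorem primeCompl_le_comap (m : Ideal R) [m.IsPrime] (g : G) (hg : g • m = m) :
    m.primeCompl ≤ Submonoid.comap (MulSemiringAction.toRingHom G R g) m.primeCompl := by
  intro s hs
  show g • s ∉ m
  intro h
  apply hs
  rw [← hg] at h
  exact (Ideal.smul_mem_pointwise_smul_iff).mp h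

/-- The automorphism of `R_m` induced by `g` in the stabilizer of `m`. -/
noncomputable def locMap (m : Ideal R) [m.IsPrime] (g : G) (hg : g • m = m) :
    Localization.AtPrime m →ₐ[B] Localization.AtPrime m :=
  { IsLocalization.map (Localization.AtPrime m) (MulSemiringAction.toRingHom G R g)
      (primeCompl_le_comap R G m g hg) with
    commutes' := by
      intro b
      show IsLocalization.map (Localization.AtPrime m) (MulSemiringAction.toRingHom G R g)
        (primeCompl_le_comap R G m g hg) (algebraMap B (Localization.AtPrime m) b) = _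
      rw [IsScalarTower.algebraMap_apply B R (Localization.AtPrime m), IsLocalization.map_eq]
      show algebraMap R _ (g • algebraMap B R b) = _
      rw [smul_algebraMap] }

theorem locMap_algebraMap (m : Ideal R) [m.IsPrime] (g : G) (hg : g • m = m) (r : R) :
    locMap R G B m g hg (algebraMap R (Localization.AtPrime m) r) =
      algebraMap R (Localization.AtPrime m) (g • r) := by
  show IsLocalization.map (Localization.AtPrime m) (MulSemiringAction.toRingHom G R g)
        (primeCompl_le_comap R G m g hg) (algebraMap R (Localization.AtPrime m) r) = _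
  rw [IsLocalization.map_eq]
  rfl

end loc

section main

variable (k : Type u) [Field k] [IsAlgClosed k]
  (R : Type v) [CommRing R] [IsDomain R] [Algebra k R] [Algebra.FiniteType k R]
  (G : Type w) [Group G] [MulSemiringAction G R] [SMulCommClass G k R] [FaithfulSMul G R]
  (B : Type v') [CommRing B] [Algebra B R] [SMulCommClass G B R]

include k in
theorem locMap_sub_mem (m : Ideal R) [m.IsMaximal] (g : G) (hg : g • m = m)
    (z : Localization.AtPrime m) :
    z - locMap R G B m g hg z ∈ IsLocalRing.maximalIdeal (Localization.AtPrime m) := by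
  obtain ⟨⟨r, s⟩, h⟩ := IsLocalization.surj m.primeCompl z
  simp only at h
  have hs1 : IsUnit (algebraMap R (Localization.AtPrime m) (s : R)) :=
    IsLocalization.map_units _ s
  have hs2 : IsUnit (algebraMap R (Localization.AtPrime m) (g • (s : R))) :=
    IsLocalization.map_units _ (⟨g • (s : R), primeCompl_le_comap R G m g hg s.2⟩ : m.primeCompl)
  have h' : locMap R G B m g hg z * algebraMap R (Localization.AtPrime m) (g • (s : R)) =
      algebraMap R (Localization.AtPrime m) (g • r) := by
    rw [← locMap_algebraMap R G B m g hg, ← locMap_algebraMap R G B m g hg, ← map_mul, h]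
  have key : (z - locMap R G B m g hg z) *
      (algebraMap R (Localization.AtPrime m) (s : R) *
        algebraMap R (Localization.AtPrime m) (g • (s : R))) =
      algebraMap R (Localization.AtPrime m) (r * (g • (s : R)) - (g • r) * (s : R)) := by
    rw [map_sub, map_mul, map_mul, ← h, ← h']
    ring
  have hmem : r * (g • (s : R)) - (g • r) * (s : R) ∈ m := by
    have e : r * (g • (s : R)) - (g • r) * (s : R) =
        r * (g • (s : R) - s) - (g • r - r) * s := by ring
    rw [e]
    exact m.sub_mem (m.mul_mem_left _ (smul_sub_mem k R G m g hg _))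
      (m.mul_mem_right _ (smul_sub_mem k R G m g hg _))
  rw [← Ideal.mul_unit_mem_iff_mem _ (hs1.mul hs2), key]
  exact (IsLocalization.AtPrime.to_map_mem_maximal_iff (Localization.AtPrime m) m _).mpr hmem

include k in
theorem eq_one_of_mem_stabilizer (m : Ideal R) [m.IsMaximal] (h : Algebra.IsEtaleAt B m)
    (g : G) (hg : g ∈ MulAction.stabilizer G m) : g = 1 := by
  have hg' : g • m = m := hg
  haveI : IsNoetherianRing R := Algebra.FiniteType.isNoetherianRing k R
  haveI : IsNoetherianRing (Localization.AtPrime m) :=
    IsLocalization.isNoetherianRing m.primeCompl _ inferInstance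
  haveI : Algebra.FormallyEtale B (Localization.AtPrime m) := h
  have hK : ⨅ i, (IsLocalRing.maximalIdeal (Localization.AtPrime m)) ^ i = ⊥ :=
    Ideal.iInf_pow_eq_bot_of_isLocalRing _ (IsLocalRing.maximalIdeal.isMaximal _).ne_top
  have heq : AlgHom.id B (Localization.AtPrime m) = locMap R G B m g hg' := by
    apply Algebra.FormallyUnramified.ext_of_iInf (I := IsLocalRing.maximalIdeal _) hK
    intro z
    rw [Ideal.Quotient.eq]
    exact locMap_sub_mem k R G B m g hg' z
  apply FaithfulSMul.eq_of_smul_eq_smul (α := R)
  intro r
  rw [one_smul]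
  have h1 := DFunLike.congr_fun heq (algebraMap R (Localization.AtPrime m) r)
  rw [locMap_algebraMap] at h1
  have hinj : Function.Injective (algebraMap R (Localization.AtPrime m)) :=
    IsLocalization.injective _ (Ideal.primeCompl_le_nonZeroDivisors m)
  exact (hinj h1).symm

end main

end Groth.Agent.Lib.Helper6.EtG
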